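import Groth.Agent.Lib.GlobalFP7.Basic
import Groth.Agent.Lib.ValCoh15.Coherent
import Mathlib.RingTheory.RingHom.FiniteType
import Mathlib.RingTheory.Valuation.ValuationRing

/-!
# Coherence of finitely presented algebras over Prüfer domains
-/

set_option autoImplicit false

universe u

open scoped nonZeroDivisors

namespace Groth.Agent.GlobalFP7

theorem finiteType_localized {R B : Type u} [CommRing R] [CommRing B] [Algebra R B] [Algebra.FiniteType R B]
    (S : Submonoid R) :
    Algebra.FiniteType (Localization S) (Localization (Algebra.algebraMapSubmonoid B S)) := by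
  haveI : IsLocalization (S.map (algebraMap R B)) (Localization (Algebra.algebraMapSubmonoid B S)) :=
    inferInstanceAs (IsLocalization (Algebra.algebraMapSubmonoid B S) (Localization (Algebra.algebraMapSubmonoid B S)))
  have h := RingHom.finiteType_localizationPreserves (algebraMap R B) S (Localization S)
    (Localization (Algebra.algebraMapSubmonoid B S)) (RingHom.finiteType_algebraMap.2 inferInstance)
  exact RingHom.finiteType_algebraMap.1 h

/-- A finite torsion-free module over a finitely presented algebra over a Prüfer domain is finitely
presented. -/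
theorem finitePresentation_of_torsionFree_prufer (R : Type u) [CommRing R] [IsDomain R]
    (hR : ∀ (p : Ideal R) [p.IsPrime], ValuationRing (Localization.AtPrime p))
    {B M : Type u} [CommRing B] [Algebra R B] [Algebra.FinitePresentation R B]
    [AddCommGroup M] [Module B M] [Module R M] [IsScalarTower R B M] [Module.Finite B M]
    [Module.IsTorsionFree R M] : Module.FinitePresentation B M := by
  obtain ⟨r, π, hπ⟩ := Module.Finite.exists_fin' B M
  haveI : Module.Flat R M := by
    rw [Module.Flat.flat_iff_torsion_eq_bot_of_valuationRing_localization_isMaximal (fun P _ => hR P),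
      ← Submodule.isTorsionFree_iff_torsion_eq_bot]
    infer_instance
  haveI : Module.Flat R ((Fin r → B) ⧸ LinearMap.ker π) :=
    Module.Flat.of_linearEquiv ((π.quotKerEquivOfSurjective hπ).restrictScalars R)
  have htf : ∀ (c : R) (x : M), c ≠ 0 → c • x = 0 → x = 0 := fun c x hc h => (smul_eq_zero_iff_right hc).1 h
  have hT : FGUpTo (Algebra.algebraMapSubmonoid B R⁰) (LinearMap.ker π) := by
    haveI := finiteType_localized (R := R) (B := B) R⁰
    haveI : IsNoetherianRing (Localization (Algebra.algebraMapSubmonoid B R⁰)) :=
      Algebra.FiniteType.isNoetherianRing (FractionRing R) _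
    haveI : Module.Finite (Localization (Algebra.algebraMapSubmonoid B R⁰))
        (LocalizedModule (Algebra.algebraMapSubmonoid B R⁰) M) :=
      Module.Finite.of_isLocalizedModule (Algebra.algebraMapSubmonoid B R⁰) (LocalizedModule.mkLinearMap _ M)
    haveI := Module.finitePresentation_of_finite (Localization (Algebra.algebraMapSubmonoid B R⁰))
      (LocalizedModule (Algebra.algebraMapSubmonoid B R⁰) M)
    exact fgUpTo_of_finitePresentation _ π hπ
  refine Module.finitePresentation_of_surjective π hπ
    (fg_of_fgUpTo (R := R) (LinearMap.ker π) (fun _ : PUnit.{u + 1} => R⁰) (fun a b h => ?_) (fun _ => hT)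
      fun p hp => ?_)
  · exact IsFractionRing.injective R (FractionRing R) (congrFun h PUnit.unit)
  · let S := Algebra.algebraMapSubmonoid B p.primeCompl
    haveI : IsDomain (Localization.AtPrime p) :=
      IsLocalization.isDomain_of_le_nonZeroDivisors _ p.primeCompl_le_nonZeroDivisors
    haveI : ValuationRing (Localization.AtPrime p) := hR p
    haveI : Algebra.FiniteType (Localization.AtPrime p) (Localization S) := finiteType_localized p.primeCompl
    haveI : Module.Finite (Localization S) (LocalizedModule S M) :=
      Module.Finite.of_isLocalizedModule S (LocalizedModule.mkLinearMap _ M)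
    haveI : Module.FinitePresentation (Localization S) (LocalizedModule S M) := by
      refine ValCoh15.finitePresentation_of_torsionFree (R := Localization.AtPrime p) fun c x hc h => ?_
      obtain ⟨a, t, rfl⟩ := IsLocalization.exists_mk'_eq p.primeCompl c
      induction x using LocalizedModule.induction_on with
      | _ m s =>
        have h' := congrArg (fun y => algebraMap (Localization.AtPrime p) (Localization S)
          (algebraMap R (Localization.AtPrime p) (t : R)) • y) h
        simp only [smul_zero, smul_smul, ← map_mul, IsLocalization.mk'_spec'] at h'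
        rw [← IsScalarTower.algebraMap_apply R (Localization.AtPrime p) (Localization S),
          IsScalarTower.algebraMap_apply R B (Localization S), algebraMap_smul, LocalizedModule.smul'_mk] at h'
        rw [← LocalizedModule.zero_mk s, LocalizedModule.mk_eq] at h' ⊢
        obtain ⟨⟨w, hw⟩, hw'⟩ := h'
        have ha : a ≠ 0 := fun h0 => hc (by rw [h0, IsLocalization.mk'_zero])
        refine ⟨⟨w, hw⟩, ?_⟩
        simp only [smul_zero, Submonoid.smul_def] at hw' ⊢
        refine htf a _ ha ?_
        rw [← algebraMap_smul B a, smul_comm (algebraMap R B a), smul_comm (algebraMap R B a)]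
        exact hw'
    exact fgUpTo_of_finitePresentation S π hπ

/-- A finitely presented algebra over a Prüfer domain is coherent. -/
theorem finitePresentation_ideal_prufer (R : Type u) [CommRing R] [IsDomain R]
    (hR : ∀ (p : Ideal R) [p.IsPrime], ValuationRing (Localization.AtPrime p))
    (A : Type u) [CommRing A] [Algebra R A] [Algebra.FinitePresentation R A]
    (I : Ideal A) (hI : I.FG) : Module.FinitePresentation A I := by
  classical
  obtain ⟨n, φ, hφ, hker⟩ := Algebra.FinitePresentation.out (R := R) (A := A)
  obtain ⟨G, rfl⟩ := hI
  let r := G.card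
  let g : Fin r → A := fun i => (G.equivFin.symm i : A)
  have hg : Set.range g = G := by
    rw [show g = Subtype.val ∘ G.equivFin.symm from rfl, Set.range_comp, G.equivFin.symm.surjective.range_eq]
    simp
  have hgI : ∀ i, g i ∈ Ideal.span (G : Set A) := fun i => Ideal.subset_span (hg ▸ Set.mem_range_self i)
  let π : (Fin r → A) →ₗ[A] Ideal.span (G : Set A) := Fintype.linearCombination A fun i => ⟨g i, hgI i⟩
  have hπ : Function.Surjective π := by
    rintro ⟨y, hy⟩
    have hy' : y ∈ Submodule.span A (Set.range g) := by rw [hg]; exact hy
    obtain ⟨c, hc⟩ := (Submodule.mem_span_range_iff_exists_fun A).1 hy'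
    exact ⟨c, Subtype.ext (by simpa [π, Fintype.linearCombination_apply] using hc)⟩
  refine Module.finitePresentation_of_surjective π hπ ?_
  -- lift to the polynomial ring
  obtain ⟨J, hJ⟩ := hker
  choose gl hgl using fun i => hφ (g i)
  let w : Fin r ⊕ J → MvPolynomial (Fin n) R := Sum.elim gl fun x => (x : MvPolynomial (Fin n) R)
  let I' : Ideal (MvPolynomial (Fin n) R) := Ideal.span (Set.range w)
  haveI : Module.Finite (MvPolynomial (Fin n) R) I' := Module.Finite.iff_fg.2 (Submodule.fg_span (Set.finite_range w))
  haveI : Module.FinitePresentation (MvPolynomial (Fin n) R) I' := finitePresentation_of_torsionFree_prufer R hR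
  let π' : (Fin r ⊕ J → MvPolynomial (Fin n) R) →ₗ[MvPolynomial (Fin n) R] I' :=
    Fintype.linearCombination _ fun i => ⟨w i, Ideal.subset_span (Set.mem_range_self i)⟩
  have hπ' : Function.Surjective π' := by
    rintro ⟨y, hy⟩
    obtain ⟨c, hc⟩ := (Submodule.mem_span_range_iff_exists_fun _).1 hy
    exact ⟨c, Subtype.ext (by simpa [π', Fintype.linearCombination_apply] using hc)⟩
  obtain ⟨W, hW⟩ := Module.FinitePresentation.fg_ker π' hπ'
  let q : (Fin r ⊕ J → MvPolynomial (Fin n) R) → (Fin r → A) := fun v i => φ (v (Sum.inl i))
  refine ⟨W.image q, le_antisymm (Submodule.span_le.2 ?_) fun v hv => ?_⟩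
  · rintro _ hx
    obtain ⟨z, hz, rfl⟩ := Finset.mem_image.1 hx
    have hzk : π' z = 0 := LinearMap.mem_ker.1 (hW ▸ Submodule.subset_span hz)
    have h0 := congrArg Subtype.val hzk
    simp only [π', Fintype.linearCombination_apply, Fintype.sum_sum_type, AddSubmonoidClass.coe_finsetSum,
      Submodule.coe_add, SetLike.val_smul, smul_eq_mul, ZeroMemClass.coe_zero, w, Sum.elim_inl, Sum.elim_inr] at h0
    have hJ0 : ∀ x : J, φ (x : MvPolynomial (Fin n) R) = 0 := fun x => by
      have : (x : MvPolynomial (Fin n) R) ∈ RingHom.ker φ.toRingHom := hJ ▸ Submodule.subset_span x.2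
      exact this
    refine LinearMap.mem_ker.2 (Subtype.ext ?_)
    have := congrArg φ h0
    simp only [map_add, map_sum, map_mul, hgl, hJ0, mul_zero, Finset.sum_const_zero, add_zero, map_zero] at this
    simpa [π, q, Fintype.linearCombination_apply] using this
  · choose vl hvl using fun i => hφ (v i)
    have h0 := congrArg Subtype.val (LinearMap.mem_ker.1 hv)
    simp only [π, Fintype.linearCombination_apply, AddSubmonoidClass.coe_finsetSum, SetLike.val_smul,
      smul_eq_mul, ZeroMemClass.coe_zero] at h0
    have hs : (∑ i, vl i * gl i) ∈ Ideal.span (J : Set (MvPolynomial (Fin n) R)) := by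
      rw [hJ]
      show φ _ = 0
      simpa [map_sum, map_mul, hvl, hgl] using h0
    obtain ⟨c, hc⟩ := Submodule.mem_span_finset'.1 hs
    let z : Fin r ⊕ J → MvPolynomial (Fin n) R := Sum.elim vl fun x => -c x
    have hz : z ∈ LinearMap.ker π' := by
      refine LinearMap.mem_ker.2 (Subtype.ext ?_)
      simp only [π', Fintype.linearCombination_apply, Fintype.sum_sum_type, AddSubmonoidClass.coe_finsetSum,
        Submodule.coe_add, SetLike.val_smul, smul_eq_mul, ZeroMemClass.coe_zero, z, w, Sum.elim_inl, Sum.elim_inr,
        neg_mul, Finset.sum_neg_distrib]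
      rw [← hc, add_neg_eq_zero]
      rfl
    rw [← hW] at hz
    have hv' : v = q z := funext fun i => (hvl i).symm
    rw [hv']
    clear hv'
    clear_value z
    induction hz using Submodule.span_induction with
    | mem x hx => exact Submodule.subset_span (Finset.mem_image_of_mem q hx)
    | zero =>
      have : q 0 = 0 := funext fun i => by simp [q]
      rw [this]; exact Submodule.zero_mem _
    | add x y _ _ hx hy =>
      have : q (x + y) = q x + q y := funext fun i => by simp [q]
      rw [this]; exact Submodule.add_mem _ hx hy
    | smul a x _ hx =>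
      have : q (a • x) = φ a • q x := funext fun i => by simp [q]
      rw [this]; exact Submodule.smul_mem _ _ hx

end Groth.Agent.GlobalFP7
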