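import Groth.Agent.Lib.FlatH4.FlatLocusFP
import Mathlib.Algebra.Module.LocalizedModule.Submodule
import Mathlib.LinearAlgebra.TensorProduct.Pi
import Mathlib.RingTheory.Flat.Stability
import Mathlib.RingTheory.Flat.TorsionFree

/-!
# Finite presentation of flat modules from finite presentation at every prime of the base
-/

set_option autoImplicit false

universe u

open TensorProduct

namespace Groth.Agent.GlobalFP7

/-- A submodule is finitely generated up to denominators in `S`. -/
def FGUpTo {B P : Type u} [CommRing B] [AddCommGroup P] [Module B P] (S : Submonoid B) (K : Submodule B P) : Prop :=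
  ∃ K₁ : Submodule B P, K₁.FG ∧ K₁ ≤ K ∧ ∀ k ∈ K, ∃ s ∈ S, s • k ∈ K₁

/-- If the localised submodule is finitely generated then so is the submodule, up to denominators. -/
theorem fgUpTo_of_localized' {B B' P P' : Type u} [CommRing B] [CommRing B'] [Algebra B B']
    [AddCommGroup P] [Module B P] [AddCommGroup P'] [Module B P'] [Module B' P'] [IsScalarTower B B' P']
    (S : Submonoid B) [IsLocalization S B'] (f : P →ₗ[B] P') [IsLocalizedModule S f]
    (K : Submodule B P) (h : (K.localized' B' S f).FG) : FGUpTo S K := by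
  classical
  obtain ⟨T, hT⟩ := h
  have hmem : ∀ y : T, ∃ a ∈ K, ∃ s : S, IsLocalizedModule.mk' f a s = (y : P') := fun y =>
    (Submodule.mem_localized' B' S f K _).1 (hT ▸ Submodule.subset_span y.2)
  choose a ha s hs using hmem
  refine ⟨Submodule.span B (Set.range a), Submodule.fg_span (Set.finite_range a),
    Submodule.span_le.2 (Set.range_subset_iff.2 ha), fun k hk => ?_⟩
  have hk' : f k ∈ (Submodule.span B (Set.range a)).localized' B' S f := by
    have h1 : f k ∈ K.localized' B' S f := ⟨k, hk, 1, IsLocalizedModule.mk'_one S f k⟩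
    rw [← hT] at h1
    refine Submodule.span_le.2 (fun y hy => ?_) h1
    exact ⟨a ⟨y, hy⟩, Submodule.subset_span ⟨⟨y, hy⟩, rfl⟩, s ⟨y, hy⟩, hs ⟨y, hy⟩⟩
  obtain ⟨b, hb, t, ht⟩ := hk'
  rw [← IsLocalizedModule.mk'_one S f k, IsLocalizedModule.mk'_eq_mk'_iff] at ht
  obtain ⟨c, hc⟩ := ht
  refine ⟨(c : B) * t, S.mul_mem c.2 t.2, ?_⟩
  have : ((c : B) * t) • k = (c : B) • b := by
    simp only [Submonoid.smul_def, OneMemClass.coe_one, one_smul] at hc
    rw [mul_smul]
    first | exact hc | exact hc.symm
  rw [this]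
  exact Submodule.smul_mem _ _ hb

/-- If the localisation of the target of a surjection is finitely presented then the kernel is
finitely generated up to denominators. -/
theorem fgUpTo_of_finitePresentation {B P M : Type u} [CommRing B] [AddCommGroup P] [Module B P] [Module.Finite B P]
    [AddCommGroup M] [Module B M] (S : Submonoid B) (π : P →ₗ[B] M) (hπ : Function.Surjective π)
    [Module.FinitePresentation (Localization S) (LocalizedModule S M)] : FGUpTo S (LinearMap.ker π) := by
  refine fgUpTo_of_localized' (B' := Localization S) S (LocalizedModule.mkLinearMap S P) _ ?_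
  rw [LinearMap.localized'_ker_eq_ker_localizedMap (Localization S) S (LocalizedModule.mkLinearMap S P)
    (LocalizedModule.mkLinearMap S M)]
  haveI : Module.Finite (Localization S) (LocalizedModule S P) :=
    Module.Finite.of_isLocalizedModule S (LocalizedModule.mkLinearMap S P)
  refine Module.FinitePresentation.fg_ker _ ?_
  exact IsLocalizedModule.map_surjective S (LocalizedModule.mkLinearMap S P) (LocalizedModule.mkLinearMap S M) π hπ

variable {R B : Type u} [CommRing R] [CommRing B] [Algebra R B]

theorem tmul_eq_zero_of_smul_eq_zero {N : Type u} [AddCommGroup N] [Module R N] {T : Submonoid R} {t : R} (ht : t ∈ T)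
    {x : N} (hx : t • x = 0) : x ⊗ₜ[R] (1 : Localization T) = 0 := by
  have h1 : (1 : Localization T) = t • IsLocalization.mk' (Localization T) 1 (⟨t, ht⟩ : T) := by
    rw [Algebra.smul_def, IsLocalization.mk'_spec'_mk, map_one]
  rw [h1, ← TensorProduct.smul_tmul, hx, TensorProduct.zero_tmul]

/-- Finite presentation at all primes of the base and at a separating family of localizations of
the base gives finite presentation. -/
theorem fg_of_fgUpTo [Algebra.FinitePresentation R B] {P : Type u} [AddCommGroup P] [Module B P] [Module R P]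
    [IsScalarTower R B P] [Module.FinitePresentation B P] (K : Submodule B P) [Module.Flat R (P ⧸ K)]
    {ι : Type u} [Fintype ι] (T : ι → Submonoid R)
    (hinj : Function.Injective fun r : R => fun j => algebraMap R (Localization (T j)) r)
    (hT : ∀ j, FGUpTo (Algebra.algebraMapSubmonoid B (T j)) K)
    (hp : ∀ (p : Ideal R) [p.IsPrime], FGUpTo (Algebra.algebraMapSubmonoid B p.primeCompl) K) : K.FG := by
  classical
  choose K₀ hK₀fg hK₀le hK₀ using hT
  have key : ∀ q : PrimeSpectrum B, ∃ (K₁ : Submodule B P) (U : Set (PrimeSpectrum B)), K₁.FG ∧ K₁ ≤ K ∧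
      IsOpen U ∧ q ∈ U ∧ ∀ q' ∈ U, ∀ k ∈ K, ∃ s ∉ q'.asIdeal, s • k ∈ K₁ := by
    intro q
    obtain ⟨Kp, hKpfg, hKple, hKp⟩ := hp (q.asIdeal.comap (algebraMap R B))
    let K₁ : Submodule B P := Kp ⊔ ⨆ j, K₀ j
    have hK₁fg : K₁.FG := hKpfg.sup (Submodule.fg_iSup K₀ hK₀fg)
    have hK₁le : K₁ ≤ K := sup_le hKple (iSup_le hK₀le)
    haveI : Module.Finite B P := inferInstance
    haveI : Module.FinitePresentation B (P ⧸ K₁) :=
      Module.finitePresentation_of_surjective K₁.mkQ (Submodule.mkQ_surjective _) (by rwa [Submodule.ker_mkQ])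
    let g : (P ⧸ K₁) →ₗ[B] (P ⧸ K) := Submodule.mapQ K₁ K LinearMap.id hK₁le
    refine ⟨K₁, _, hK₁fg, hK₁le, FlatH4.isOpen_flat_localized (R := R) (S := B) (M := P ⧸ K₁), ?_, ?_⟩
    · have hbij : Function.Bijective (IsLocalizedModule.map q.asIdeal.primeCompl
          (LocalizedModule.mkLinearMap q.asIdeal.primeCompl (P ⧸ K₁))
          (LocalizedModule.mkLinearMap q.asIdeal.primeCompl (P ⧸ K)) g) := by
        refine ⟨?_, IsLocalizedModule.map_surjective _ _ _ g ?_⟩
        · rw [← LinearMap.ker_eq_bot, LinearMap.ker_localizedMap_eq_localized₀_ker, eq_bot_iff]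
          rintro x ⟨a, ha, s, rfl⟩
          obtain ⟨a, rfl⟩ := Submodule.mkQ_surjective K₁ a
          have haK : a ∈ K := by simpa [g] using ha
          obtain ⟨t, ht, hta⟩ := hKp a haK
          obtain ⟨r, hr, rfl⟩ := ht
          rw [Submodule.mem_bot, IsLocalizedModule.mk'_eq_zero, IsLocalizedModule.eq_zero_iff q.asIdeal.primeCompl]
          refine ⟨⟨algebraMap R B r, hr⟩, ?_⟩
          show algebraMap R B r • K₁.mkQ a = 0
          rw [← map_smul, Submodule.mkQ_apply, Submodule.Quotient.mk_eq_zero]
          exact le_sup_left (a := Kp) hta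
        · exact fun y => by
            obtain ⟨a, rfl⟩ := Submodule.mkQ_surjective K y
            exact ⟨K₁.mkQ a, rfl⟩
      haveI : Module.Flat R (LocalizedModule q.asIdeal.primeCompl (P ⧸ K)) :=
        (FlatH4.flat_localized_iff (R := R) (M := P ⧸ K) q.asIdeal).2 fun J x hx =>
          ⟨1, q.asIdeal.primeCompl.one_mem, by
            rw [one_smul]
            exact Module.Flat.lTensor_preserves_injective_linearMap (M := P ⧸ K) J.subtype J.injective_subtype
              (hx.trans (map_zero _).symm)⟩
      exact Module.Flat.of_linearEquiv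
        ((LinearEquiv.ofBijective _ hbij).restrictScalars R)
    · intro q' hq' k hk
      haveI : Module.Flat R (LocalizedModule q'.asIdeal.primeCompl (P ⧸ K₁)) := hq'
      let x := LocalizedModule.mkLinearMap q'.asIdeal.primeCompl (P ⧸ K₁) (K₁.mkQ k)
      let Δ : R →ₗ[R] ∀ j, Localization (T j) := LinearMap.pi fun j => Algebra.linearMap R _
      have hΔ : Function.Injective (LinearMap.lTensor (LocalizedModule q'.asIdeal.primeCompl (P ⧸ K₁)) Δ) :=
        Module.Flat.lTensor_preserves_injective_linearMap Δ hinj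
      have hzero : x ⊗ₜ[R] (1 : R) = 0 := by
        apply hΔ
        rw [map_zero, LinearMap.lTensor_tmul]
        apply (TensorProduct.piRight R R (LocalizedModule q'.asIdeal.primeCompl (P ⧸ K₁))
          fun j => Localization (T j)).injective
        rw [map_zero, TensorProduct.piRight_apply, TensorProduct.piRightHom_tmul]
        funext j
        obtain ⟨t, ⟨r, hr, rfl⟩, hts⟩ := hK₀ j k hk
        have hrx : r • x = 0 := by
          rw [← algebraMap_smul B r x, ← map_smul, ← map_smul]
          have : K₁.mkQ (algebraMap R B r • k) = 0 := by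
            rw [Submodule.mkQ_apply, Submodule.Quotient.mk_eq_zero]
            exact le_sup_right (a := Kp) (Submodule.mem_iSup_of_mem j hts)
          rw [this, map_zero]
        simp only [Δ, LinearMap.pi_apply, Algebra.linearMap_apply, map_one, Pi.zero_apply]
        exact tmul_eq_zero_of_smul_eq_zero hr hrx
      have hx : x = 0 := by simpa using congrArg (TensorProduct.rid R _) hzero
      obtain ⟨⟨s, hs⟩, hsk⟩ := (IsLocalizedModule.eq_zero_iff q'.asIdeal.primeCompl
        (LocalizedModule.mkLinearMap q'.asIdeal.primeCompl (P ⧸ K₁))).1 hx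
      refine ⟨s, hs, ?_⟩
      have : s • K₁.mkQ k = 0 := hsk
      rwa [← map_smul, Submodule.mkQ_apply, Submodule.Quotient.mk_eq_zero] at this
  choose K₁ U hfg hle hopen hmem hU using key
  obtain ⟨F, hF⟩ := isCompact_univ.elim_finite_subcover U hopen fun q _ => Set.mem_iUnion.2 ⟨q, hmem q⟩
  suffices K = ⨆ q : F, K₁ q by
    rw [this]
    exact Submodule.fg_iSup _ fun q => hfg q
  refine le_antisymm (fun k hk => ?_) (iSup_le fun q => hle q)
  by_contra hne
  have h1 : ((⨆ q : F, K₁ q).colon {k}) ≠ ⊤ := by
    intro h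
    have := (Ideal.eq_top_iff_one _).1 h
    rw [Submodule.mem_colon_singleton, one_smul] at this
    exact hne this
  obtain ⟨m, hm, hle'⟩ := Ideal.exists_le_maximal _ h1
  obtain ⟨q, hqF, hq⟩ := Set.mem_iUnion₂.1 (hF (Set.mem_univ (⟨m, hm.isPrime⟩ : PrimeSpectrum B)))
  obtain ⟨s, hs, hsk⟩ := hU q _ hq k hk
  exact hs (hle' (Submodule.mem_colon_singleton.2 (Submodule.mem_iSup_of_mem (⟨q, hqF⟩ : F) hsk)))

end Groth.Agent.GlobalFP7
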